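import Mathlib
import Cfsg.Prelude.Def_PLocal

/-!
Nilpotent minimal covers and abelian Sylow subgroups.
-/

set_option autoImplicit false

namespace Cfsg.Agent.NilMinCover

open Subgroup

variable {G : Type*} [Group G] [Finite G]

theorem sylow_normal' {A : Type*} [Group A] [Finite A] [hA : Group.IsNilpotent A] {r : ℕ} [Fact r.Prime]
    (R : Sylow r A) : (R : Subgroup A).Normal :=
  (((Group.isNilpotent_of_finite_tfae (G := A)).out 0 3 :
    Group.IsNilpotent A ↔ ∀ (p : ℕ) (_hp : Fact p.Prime) (P : Sylow p A), (P : Subgroup A).Normal)).1 hA r inferInstance R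

theorem sylow_eq' {A : Type*} [Group A] [Finite A] [Group.IsNilpotent A] {r : ℕ} [Fact r.Prime]
    (R T : Sylow r A) : R = T := by
  haveI := (R.unique_of_normal (sylow_normal' R)).instSubsingleton
  exact Subsingleton.elim _ _

/-- The hypotheses. -/
structure IsCover (𝓐 : Finset (Subgroup G)) : Prop where
  ne_top : ∀ A ∈ 𝓐, A ≠ ⊤
  cover : ∀ g : G, ∃ A ∈ 𝓐, g ∈ A
  minimal : ∀ 𝓑 : Finset (Subgroup G), (∀ A ∈ 𝓑, A ≠ ⊤) ∧ (∀ g : G, ∃ A ∈ 𝓑, g ∈ A) → 𝓐.card ≤ 𝓑.card
  nilp : ∀ A ∈ 𝓐, Group.IsNilpotent A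

theorem IsCover.eq_of_le {𝓐 : Finset (Subgroup G)} (h : IsCover 𝓐) {H A B : Subgroup G} (hH : H ≠ ⊤)
    (hA : A ∈ 𝓐) (hB : B ∈ 𝓐) (hAH : A ≤ H) (hBH : B ≤ H) : A = B := by
  classical
  by_contra hne
  have hsub : ({A, B} : Finset (Subgroup G)) ⊆ 𝓐 := by
    intro C hC
    rcases Finset.mem_insert.1 hC with rfl | hC
    · exact hA
    · rw [Finset.mem_singleton.1 hC]; exact hB
  have h1 := h.minimal (insert H (𝓐 \ {A, B})) ⟨fun C hC => ?_, fun g => ?_⟩
  · have h2 := Finset.card_insert_le H (𝓐 \ {A, B})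
    rw [Finset.card_sdiff_of_subset hsub, Finset.card_pair hne] at h2
    have h3 := Finset.card_le_card hsub
    rw [Finset.card_pair hne] at h3
    omega
  · rcases Finset.mem_insert.1 hC with rfl | hC
    · exact hH
    · exact h.ne_top C (Finset.mem_sdiff.1 hC).1
  · obtain ⟨C, hC, hg⟩ := h.cover g
    by_cases hC' : C ∈ ({A, B} : Finset (Subgroup G))
    · refine ⟨H, Finset.mem_insert_self _ _, ?_⟩
      rcases Finset.mem_insert.1 hC' with rfl | hC'
      · exact hAH hg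
      · rw [Finset.mem_singleton.1 hC'] at hg; exact hBH hg
    · exact ⟨C, Finset.mem_insert_of_mem (Finset.mem_sdiff.2 ⟨hC, hC'⟩), hg⟩

variable {p : ℕ} [hp : Fact p.Prime]

/-- A `p`-subgroup of a nilpotent subgroup commutes with a `p`-element of it when the Sylow
`p`-subgroups of `G` are abelian. -/
theorem pElt_central (P : Sylow p G) (hab : IsMulCommutative (P : Subgroup G)) {A : Subgroup G}
    (hA : Group.IsNilpotent A) {z : G} (hz : z ∈ A) {k : ℕ} (hzk : z ^ p ^ k = 1) :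
    ∀ a ∈ A, Commute z a := by
  haveI := hA
  obtain ⟨Q⟩ : Nonempty (Sylow p A) := inferInstance
  haveI hQn : (Q : Subgroup A).Normal := sylow_normal' Q
  have hzQ : (⟨z, hz⟩ : A) ∈ (Q : Subgroup A) := by
    obtain ⟨T, hT⟩ := (show IsPGroup p (zpowers (⟨z, hz⟩ : A)) by
      obtain ⟨i, -, hi⟩ := (Nat.dvd_prime_pow hp.out).1
        (orderOf_dvd_of_pow_eq_one (show (⟨z, hz⟩ : A) ^ p ^ k = 1 from Subtype.ext hzk))
      exact IsPGroup.of_card (by rw [Nat.card_zpowers, hi])).exists_le_sylow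
    rw [sylow_eq' Q T]
    exact hT (mem_zpowers _)
  obtain ⟨S, hS⟩ := (Q.2.map A.subtype).exists_le_sylow
  obtain ⟨g, hg⟩ := MulAction.exists_smul_eq G P S
  have hcommS : ∀ u ∈ (S : Subgroup G), ∀ v ∈ (S : Subgroup G), u * v = v * u := by
    rw [← hg]
    rintro _ ⟨u, hu, rfl⟩ _ ⟨v, hv, rfl⟩
    have h := congrArg (MulAut.conj g) (congrArg Subtype.val (hab.is_comm.comm (⟨u, hu⟩ : (P : Subgroup G)) ⟨v, hv⟩))
    simpa only [map_mul, Subgroup.coe_mul] using! h
  intro a ha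
  -- `a` is a product of a `p'`-element and a `p`-element of `A`
  have key : Subgroup.centralizer ((Q : Subgroup A) : Set A) = ⊤ := by
    by_contra hne
    have h1 : ∀ (r : ℕ) [Fact r.Prime] (R : Sylow r A), (R : Subgroup A) ≤ Subgroup.centralizer ((Q : Subgroup A) : Set A) := by
      intro r hr R x hx
      refine Subgroup.mem_centralizer_iff.2 fun y hy => ?_
      by_cases hrp : r = p
      · subst hrp
        rw [sylow_eq' R Q] at hx
        exact Subtype.ext (hcommS _ (hS ⟨y, hy, rfl⟩) _ (hS ⟨x, hx, rfl⟩))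
      · haveI hRn : (R : Subgroup A).Normal := sylow_normal' R
        exact (Subgroup.commute_of_normal_of_disjoint (Q : Subgroup A) (R : Subgroup A) hQn hRn
          (IsPGroup.disjoint_of_ne p r (Ne.symm hrp) _ _ Q.2 R.2) y x hy hx).eq
    obtain ⟨r, hr, hrd⟩ := Nat.exists_prime_and_dvd (mt Subgroup.index_eq_one.1 hne)
    haveI := Fact.mk hr
    obtain ⟨R⟩ : Nonempty (Sylow r A) := inferInstance
    exact R.not_dvd_index (hrd.trans (Subgroup.index_dvd_of_le (h1 r R)))
  have h2 : (⟨a, ha⟩ : A) ∈ Subgroup.centralizer ((Q : Subgroup A) : Set A) := key ▸ mem_top _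
  exact congrArg Subtype.val (Subgroup.mem_centralizer_iff.1 h2 _ hzQ)

/-- A non-trivial `p`-element lies in exactly one member. -/
theorem IsCover.unique {𝓐 : Finset (Subgroup G)} (h : IsCover 𝓐) (hZ : center G = ⊥) (P : Sylow p G)
    (hab : IsMulCommutative (P : Subgroup G)) {z : G} (hz1 : z ≠ 1) {k : ℕ} (hzk : z ^ p ^ k = 1)
    {A B : Subgroup G} (hA : A ∈ 𝓐) (hB : B ∈ 𝓐) (hzA : z ∈ A) (hzB : z ∈ B) : A = B := by
  refine h.eq_of_le (H := centralizer ({z} : Set G)) ?_ hA hB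
    (fun a ha => mem_centralizer_singleton_iff.2 (pElt_central P hab (h.nilp A hA) hzA hzk a ha).eq.symm)
    (fun a ha => mem_centralizer_singleton_iff.2 (pElt_central P hab (h.nilp B hB) hzB hzk a ha).eq.symm)
  intro htop
  have : z ∈ center G := mem_center_iff.2 fun g =>
    mem_centralizer_singleton_iff.1 (htop ▸ mem_top g)
  rw [hZ, mem_bot] at this
  exact hz1 this

theorem pow_card_eq_one_of_mem (P : Sylow p G) {z : G} (hz : z ∈ (P : Subgroup G)) :
    ∃ k, z ^ p ^ k = 1 := by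
  obtain ⟨k, hk⟩ := P.2 ⟨z, hz⟩
  exact ⟨k, congrArg Subtype.val hk⟩

/-- Either elementary abelian and not cyclic, or `P` lies in a member. -/
theorem IsCover.exists_member {𝓐 : Finset (Subgroup G)} (h : IsCover 𝓐) (hZ : center G = ⊥) (P : Sylow p G)
    (hab : IsMulCommutative (P : Subgroup G))
    (hP : ¬ ((∀ a ∈ (P : Subgroup G), a ^ p = 1) ∧ p < Nat.card (P : Subgroup G))) :
    ∃ A ∈ 𝓐, (P : Subgroup G) ≤ A := by
  have hcomm : ∀ a ∈ (P : Subgroup G), ∀ b ∈ (P : Subgroup G), Commute a b := fun a ha b hb =>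
    congrArg Subtype.val (hab.is_comm.comm (⟨a, ha⟩ : (P : Subgroup G)) ⟨b, hb⟩)
  by_cases hexp : ∀ a ∈ (P : Subgroup G), a ^ p = 1
  · have hle : Nat.card (P : Subgroup G) ≤ p := not_lt.1 fun hlt => hP ⟨hexp, hlt⟩
    by_cases hbot : (P : Subgroup G) = ⊥
    · obtain ⟨A, hA, -⟩ := h.cover 1
      exact ⟨A, hA, hbot ▸ bot_le⟩
    obtain ⟨x, hx, hx1⟩ := (ne_bot_iff_exists_ne_one.1 hbot : ∃ a : (P : Subgroup G), a ≠ 1) |>.elim
      fun a ha => (⟨(a : G), a.2, fun e => ha (Subtype.ext e)⟩ : ∃ x ∈ (P : Subgroup G), x ≠ 1)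
    obtain ⟨A, hA, hxA⟩ := h.cover x
    refine ⟨A, hA, ?_⟩
    rw [← Subgroup.eq_of_le_of_card_ge (zpowers_le.2 hx) (by
      rw [Nat.card_zpowers, orderOf_eq_prime (hexp x hx) hx1]; exact hle)]
    exact zpowers_le.2 hxA
  push Not at hexp
  obtain ⟨x, hx, hxp⟩ := hexp
  obtain ⟨A, hA, hxA⟩ := h.cover x
  obtain ⟨kz, hkz⟩ := pow_card_eq_one_of_mem P ((P : Subgroup G).pow_mem hx p)
  have homega : ∀ u ∈ (P : Subgroup G), u ^ p = 1 → u ∈ A := by
    intro u hu hup
    obtain ⟨B, hB, hxuB⟩ := h.cover (x * u)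
    have e : (x * u) ^ p = x ^ p := by rw [(hcomm x hx u hu).mul_pow, hup, mul_one]
    have hAB := h.unique hZ P hab hxp hkz hA hB (A.pow_mem hxA p) (e ▸ B.pow_mem hxuB p)
    subst hAB
    simpa using A.mul_mem (A.inv_mem hxA) hxuB
  refine ⟨A, hA, fun w hw => ?_⟩
  by_cases hw1 : w = 1
  · exact hw1 ▸ A.one_mem
  obtain ⟨B, hB, hwB⟩ := h.cover w
  obtain ⟨k, hk⟩ := pow_card_eq_one_of_mem P hw
  have hd := orderOf_dvd_of_pow_eq_one hk
  obtain ⟨i, -, hi⟩ := (Nat.dvd_prime_pow hp.out).1 hd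
  have hi0 : i ≠ 0 := by rintro rfl; exact hw1 (orderOf_eq_one_iff.1 (by simpa using hi))
  set u := w ^ p ^ (i - 1)
  have hup : u ^ p = 1 := by
    rw [← pow_mul, ← pow_succ, Nat.sub_add_cancel (Nat.pos_of_ne_zero hi0), ← hi, pow_orderOf_eq_one]
  have hu1 : u ≠ 1 := fun e => by
    have := Nat.le_of_dvd (pow_pos hp.out.pos _) (orderOf_dvd_of_pow_eq_one e)
    rw [hi] at this
    exact absurd this (not_le.2 (Nat.pow_lt_pow_right hp.out.one_lt (by omega)))
  have hAB := h.unique hZ P hab hu1 (k := 1) (by rwa [pow_one]) hA hB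
    (homega u ((P : Subgroup G).pow_mem hw _) hup) (B.pow_mem hwB _)
  exact hAB ▸ hwB

/-- The conclusions, once `P` is inside a member. -/
theorem IsCover.conclusions {𝓐 : Finset (Subgroup G)} (h : IsCover 𝓐) (hZ : center G = ⊥) (P : Sylow p G)
    (hab : IsMulCommutative (P : Subgroup G)) (hnn : ¬ (P : Subgroup G).Normal)
    (hP : ¬ ((∀ a ∈ (P : Subgroup G), a ^ p = 1) ∧ p < Nat.card (P : Subgroup G)))
    {A : Subgroup G} (hA : A ∈ 𝓐) (hPA : (P : Subgroup G) ≤ A) :
    centralizer ((P : Subgroup G) : Set G) = A ∧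
      IsCoatom (normalizer ((P : Subgroup G) : Set G)) ∧
      (∀ g : G, g ∉ normalizer ((P : Subgroup G) : Set G) →
        ¬ p ∣ Nat.card ↥(normalizer ((P : Subgroup G) : Set G) ⊓
          (normalizer ((P : Subgroup G) : Set G)).map (MulAut.conj g).toMonoidHom)) ∧
      ∀ M : Subgroup G, IsCoatom M → centralizer ((P : Subgroup G) : Set G) ≤ M →
        M = normalizer ((P : Subgroup G) : Set G) := by
  have hPne : (P : Subgroup G) ≠ ⊥ := fun e => hnn (e ▸ inferInstance)
  have hCA : centralizer ((P : Subgroup G) : Set G) = A := by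
    refine le_antisymm (fun c hc => ?_) fun a ha => mem_centralizer_iff.2 fun z hz => ?_
    · have hcP : ∀ z ∈ (P : Subgroup G), Commute c z := fun z hz => (mem_centralizer_iff.1 hc z hz).symm
      set q := p ^ (orderOf c).factorization p with hq
      obtain ⟨z, hz, hzw⟩ : ∃ z ∈ (P : Subgroup G), c ^ ((orderOf c) / q) * z ^ ((orderOf c) / q) ≠ 1 := by
        by_cases h1 : c ^ ((orderOf c) / q) = 1
        · obtain ⟨a, ha⟩ := ne_bot_iff_exists_ne_one.1 hPne
          refine ⟨a, a.2, ?_⟩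
          rw [h1, one_mul]
          intro e
          obtain ⟨k, hk⟩ := pow_card_eq_one_of_mem P a.2
          have hd := Nat.dvd_gcd (orderOf_dvd_of_pow_eq_one hk) (orderOf_dvd_of_pow_eq_one e)
          rw [Nat.Coprime.gcd_eq_one (Nat.Coprime.pow_left k (Nat.coprime_ordCompl hp.out (orderOf_pos c).ne')),
            Nat.dvd_one, orderOf_eq_one_iff] at hd
          exact ha (Subtype.ext hd)
        · exact ⟨1, one_mem _, by simpa using h1⟩
      obtain ⟨B, hB, hcB⟩ := h.cover (c * z)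
      have hw : c ^ (orderOf c / q) * z ^ (orderOf c / q) ∈ B := by
        rw [← (hcP z hz).mul_pow]; exact B.pow_mem hcB _
      have hu : c ^ (orderOf c / q) ∈ (P : Subgroup G) := by
        have hpow : (c ^ (orderOf c / q)) ^ q = 1 := by
          rw [← pow_mul, Nat.div_mul_cancel (Nat.ordProj_dvd _ _), pow_orderOf_eq_one]
        have hpg : IsPGroup p ↥((P : Subgroup G) ⊔ zpowers (c ^ (orderOf c / q))) := by
          refine IsPGroup.to_sup_of_normal_left' P.2 ?_ ?_
          · obtain ⟨i, -, hi⟩ := (Nat.dvd_prime_pow hp.out).1 (orderOf_dvd_of_pow_eq_one hpow)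
            exact IsPGroup.of_card (by rw [Nat.card_zpowers, hi])
          · refine zpowers_le.2 ?_
            exact centralizer_le_normalizer ((P : Subgroup G) : Set G) (pow_mem hc _)
        rw [← P.3 hpg le_sup_left]
        exact mem_sup_right (mem_zpowers _)
      have hwP : c ^ (orderOf c / q) * z ^ (orderOf c / q) ∈ (P : Subgroup G) :=
        mul_mem hu (pow_mem hz _)
      obtain ⟨k, hk⟩ := pow_card_eq_one_of_mem P hwP
      have hAB := h.unique hZ P hab hzw hk hA hB (hPA hwP) hw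
      subst hAB
      simpa using A.mul_mem hcB (A.inv_mem (hPA hz))
    · obtain ⟨k, hk⟩ := pow_card_eq_one_of_mem P hz
      exact (pElt_central P hab (h.nilp A hA) (hPA hz) hk a ha).eq
  set N := normalizer ((P : Subgroup G) : Set G) with hN
  -- conjugate members
  have hconj : ∀ g : G, ∀ B ∈ 𝓐, ((g • P : Sylow p G) : Subgroup G) ≤ B →
      ∀ y : G, y ≠ 1 → y ∈ (P : Subgroup G) → y ∈ B → g ∈ N := by
    intro g B hB hPB y hy1 hyP hyB
    obtain ⟨k, hk⟩ := pow_card_eq_one_of_mem P hyP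
    have hAB := h.unique hZ P hab hy1 hk hA hB (hPA hyP) hyB
    subst hAB
    haveI := h.nilp A hA
    have he : g • P = P := Sylow.subtype_injective (hP := hPB) (hQ := hPA) (sylow_eq' _ _)
    exact Sylow.smul_eq_iff_mem_normalizer.1 he
  have hmem : ∀ g : G, ∃ B ∈ 𝓐, ((g • P : Sylow p G) : Subgroup G) ≤ B ∧
      ∀ H : Subgroup G, g ∈ H → A ≤ H → B ≤ H := by
    intro g
    have hcon : centralizer (((g • P : Sylow p G) : Subgroup G) : Set G) =
        A.map (MulAut.conj g).toMonoidHom := by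
      rw [← hCA, Sylow.coe_subgroup_smul]
      ext y
      simp only [mem_centralizer_iff, mem_map, MulEquiv.coe_toMonoidHom, MulAut.conj_apply]
      constructor
      · intro hy
        refine ⟨g⁻¹ * y * g, fun x hx => ?_, by group⟩
        have := hy (g * x * g⁻¹) ⟨x, hx, rfl⟩
        calc x * (g⁻¹ * y * g) = g⁻¹ * ((g * x * g⁻¹) * y) * g := by group
          _ = g⁻¹ * (y * (g * x * g⁻¹)) * g := by rw [this]
          _ = g⁻¹ * y * g * x := by group
      · rintro ⟨a, ha, rfl⟩ _ ⟨x, hx, rfl⟩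
        show g * x * g⁻¹ * (g * a * g⁻¹) = g * a * g⁻¹ * (g * x * g⁻¹)
        calc g * x * g⁻¹ * (g * a * g⁻¹) = g * (x * a) * g⁻¹ := by group
          _ = g * (a * x) * g⁻¹ := by rw [ha x hx]
          _ = g * a * g⁻¹ * (g * x * g⁻¹) := by group
    have hab' : IsMulCommutative ((g • P : Sylow p G) : Subgroup G) := by
      refine ⟨⟨fun a b => Subtype.ext ?_⟩⟩
      obtain ⟨a, ⟨x, hx, rfl⟩⟩ := a
      obtain ⟨b, ⟨y, hy, rfl⟩⟩ := b
      have h := congrArg (MulAut.conj g) (congrArg Subtype.val (hab.is_comm.comm (⟨x, hx⟩ : (P : Subgroup G)) ⟨y, hy⟩))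
      simpa only [map_mul, Subgroup.coe_mul] using! h
    have hPg : ((g • P : Sylow p G) : Subgroup G) ≤ A.map (MulAut.conj g).toMonoidHom := by
      rw [Sylow.coe_subgroup_smul]
      rintro _ ⟨x, hx, rfl⟩
      exact ⟨x, hPA hx, rfl⟩
    obtain ⟨B, hB, hyB⟩ := h.exists_member hZ (g • P) hab' (fun ⟨hexp, hlt⟩ => hP ⟨fun a ha => by
      have hmem' : MulAut.conj g a ∈ ((g • P : Sylow p G) : Subgroup G) := by
        rw [Sylow.coe_subgroup_smul]; exact ⟨a, ha, rfl⟩
      have := hexp _ hmem'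
      rw [← map_pow] at this
      exact (map_eq_one_iff _ (MulAut.conj g).injective).1 this,
      lt_of_lt_of_eq hlt (Sylow.card_eq_multiplicity (g • P) |>.trans P.card_eq_multiplicity.symm)⟩)
    refine ⟨B, hB, hyB, fun H hgH hAH b hb => ?_⟩
    have hbC : b ∈ centralizer (((g • P : Sylow p G) : Subgroup G) : Set G) :=
      mem_centralizer_iff.2 fun z hz => by
        obtain ⟨k, hk⟩ := pow_card_eq_one_of_mem (g • P) hz
        exact (pElt_central (g • P) hab' (h.nilp B hB) (hyB hz) hk b hb).eq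
    rw [hcon] at hbC
    obtain ⟨a, ha, rfl⟩ := hbC
    exact H.mul_mem (H.mul_mem hgH (hAH ha)) (H.inv_mem hgH)
  have hNle : A ≤ N := hCA ▸ centralizer_le_normalizer ((P : Subgroup G) : Set G)
  have hstab : ∀ H : Subgroup G, H ≠ ⊤ → A ≤ H → H ≤ N := by
    intro H hH hAH g hg
    obtain ⟨B, hB, hPB, hBH⟩ := hmem g
    have hAB := h.eq_of_le hH hA hB hAH (hBH H hg hAH)
    obtain ⟨a, ha⟩ := ne_bot_iff_exists_ne_one.1 hPne
    exact hconj g B hB hPB a (fun e => ha (Subtype.ext e)) a.2 (hAB ▸ hPA a.2)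
  have hNtop : N ≠ ⊤ := fun e => hnn (Subgroup.normalizer_eq_top_iff.1 e)
  refine ⟨hCA, ⟨hNtop, fun H hH => ?_⟩, fun g hg hd => ?_, fun M hM hCM => ?_⟩
  · by_contra hne
    exact hH.not_ge (hstab H hne (hNle.trans hH.le))
  · obtain ⟨y, hy⟩ := exists_prime_orderOf_dvd_card' p hd
    obtain ⟨hy1, hy2⟩ := mem_inf.1 y.2
    obtain ⟨B, hB, hPB, -⟩ := hmem g
    have huniq : ∀ (Q : Sylow p G) (x : G), x ∈ normalizer ((Q : Subgroup G) : Set G) → x ^ p = 1 →
        x ∈ (Q : Subgroup G) := fun Q x hx hxp => by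
      have hpg : IsPGroup p ↥((Q : Subgroup G) ⊔ zpowers x) :=
        IsPGroup.to_sup_of_normal_left' Q.2
          (by
            obtain ⟨i, -, hi⟩ := (Nat.dvd_prime_pow hp.out).1
              (orderOf_dvd_of_pow_eq_one (show x ^ p ^ 1 = 1 by rwa [pow_one]))
            exact IsPGroup.of_card (by rw [Nat.card_zpowers, hi]))
          (zpowers_le.2 hx)
      rw [← Q.3 hpg le_sup_left]
      exact mem_sup_right (mem_zpowers x)
    have hyp : (y : G) ^ p = 1 := by rw [← hy, ← Subgroup.orderOf_coe, pow_orderOf_eq_one]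
    have hyg : (y : G) ∈ ((g • P : Sylow p G) : Subgroup G) := by
      obtain ⟨x, hx, hxy⟩ := hy2
      have hxP : x ∈ (P : Subgroup G) := huniq P x hx (by
        have := hyp
        rw [← hxy, ← map_pow] at this
        exact (map_eq_one_iff _ (MulAut.conj g).injective).1 this)
      rw [Sylow.coe_subgroup_smul]
      exact ⟨x, hxP, hxy⟩
    refine hg (hconj g B hB hPB (y : G) (fun e => ?_) (huniq P _ hy1 hyp) (hPB hyg))
    rw [← Subgroup.orderOf_coe, e, orderOf_one] at hy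
    exact hp.out.one_lt.ne hy
  · rcases (hstab M hM.1 (hCA ▸ hCM)).eq_or_lt with e | e
    · exact e
    · exact absurd (hM.2 N e) hNtop

end Cfsg.Agent.NilMinCover
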